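import Groth.Agent.Lib.ProjMor.Embed
import Groth.Agent.Lib.ProjMor.Pieces
import Groth.Agent.Lib.ProjMor.VeryAmple
import Groth.Agent.Lib.HProj.QuasiProj
import Groth.Agent.H22.StrictTransform.Section
import Groth.Agent.Lib.SchImage.Integral

/-!
# An affine scheme of finite type as the complement of a hyperplane section in a projective scheme
-/

set_option autoImplicit false
set_option maxHeartbeats 1000000

noncomputable section

universe u

open CategoryTheory CategoryTheory.Limits AlgebraicGeometry TopologicalSpace Opposite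

namespace Groth.Agent.H22.AffineCompl11382

open Groth.Agent.Lib TensorMod TensorMod.Gen TensorMod.Dual TensorMod.Pullback Ample.GenLocus ProjMor ProjMor.Sec ProjMor.Frame

theorem exists_affine_compactification {R : Type u} [CommRing R] {U : Scheme.{u}} [IsAffine U]
    (q : U ⟶ Spec (CommRingCat.of R)) [LocallyOfFiniteType q] :
    ∃ (P : Scheme.{u}) (gP : P ⟶ Spec (CommRingCat.of R)) (j : U ⟶ P) (K : P.Modules)
      (σ : Coh.structureModule P ⟶ K),
      IsProper gP ∧ IsOpenImmersion j ∧ QuasiCompact j ∧ IsSchemeTheoreticallyDominant j ∧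
        j ≫ gP = q ∧ CohB1.IsAmple K ∧
        (CohB1.genLocus K σ : Set P) = Set.range j ∧ (IsIntegral U → IsIntegral P) := by
  classical
  obtain ⟨gens, hgens⟩ := VeryAmple.exists_gens q (isAffineOpen_top U) (isAffineOpen_top _) le_top
  let N := gens.card
  let M : U.Modules := Coh.structureModule U
  have hM : PicF.IsInvertible M := PicLoc.isInvertible_structureModule U
  let g₀ : Fin N → Γ(U, ⊤) := fun i => (gens.equivFin.symm i : Γ(U, ⊤))
  let t : Fin (N + 1) → ProjUP.Γm M := Fin.cons (one U ⊤) fun i => g₀ i • one U ⊤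
  have hone : IsGen M (⊤ : U.Opens) (gl (t 0) ⊤) := by
    simp only [gl, t, Fin.cons_zero, rs_self]
    exact isGen_one ⊤
  have hlocus : locus (t 0) = ⊤ := top_le_iff.1 (le_locus hone)
  obtain ⟨r, hr, τ, hτ⟩ := Poly.exists_map N R q M hM t
    (Embed.generatedBy_of_locus t fun x => ⟨0, by rw [hlocus]; trivial⟩)
  let 𝒜 := CohB1.polyGrading N R
  let el : Fin (N + 1) → 𝒜 1 := fun i => ⟨MvPolynomial.X i, MvPolynomial.isHomogeneous_X R i⟩
  have hcv := Main.cover (Poly.lin_mem N R) (Poly.adjoin_lin N R)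
  have hinv : PicF.IsInvertible (Twist.twist 𝒜 1) :=
    Groth.Agent.Lib.ProjTilde.Invertible.twist_isInvertible_of_cover (fun x => by
      obtain ⟨c, hc⟩ := hcv x
      exact ⟨c, c.2, hc⟩) 1
  let D₀ : (CohB1.ProjSpace N R).Opens := Proj.basicOpen 𝒜 (el 0 : MvPolynomial (Fin (N + 1)) R)
  have hD₀ : IsAffineOpen D₀ := Proj.isAffineOpen_basicOpen 𝒜 _ (el 0).2 one_pos
  have hpre : r ⁻¹ᵁ D₀ = ⊤ := by
    rw [← hlocus]
    show r ⁻¹ᵁ Proj.basicOpen 𝒜 (el 0 : MvPolynomial (Fin (N + 1)) R) = _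
    rw [← locus_g hcv (el 0)]
    exact (((congrArg locus (hτ 0)).symm.trans
      ((locus_iso τ _).trans (locus_pullback hinv r _))).symm)
  have hsurj : Function.Surjective (r.appLE D₀ ⊤ hpre.ge) := by
    intro z
    refine (Subring.closure_le (t := (r.appLE D₀ ⊤ hpre.ge).hom.range)).2 ?_ (hgens z)
    rintro a (⟨y, rfl⟩ | ha)
    · refine ⟨(CohB1.ProjSpace.toSpec N R).appLE ⊤ D₀ le_top y, ?_⟩
      rw [← ConcreteCategory.comp_apply, Scheme.Hom.appLE_comp_appLE]
      simp only [hr]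
    · obtain ⟨i, rfl⟩ : ∃ i, g₀ i = a :=
        ⟨gens.equivFin ⟨a, ha⟩, by simp only [g₀, Equiv.symm_apply_apply]⟩
      refine ⟨fr 𝒜 (el 0) (el i.succ), (hone ⊤ le_rfl).1 ?_⟩
      have h := Embed.ratio_of_iso (a := el 0) (b := el i.succ) τ (hτ 0) (hτ i.succ)
        (U := ⊤) hpre.ge
      simp only [gl, rs_self] at h ⊢
      refine h.symm.trans ?_
      simp only [t, Fin.cons_zero, Fin.cons_succ]
  haveI : IsProper (CohB1.ProjSpace.toSpec N R) := ProjSpace.Basic.isProper_toSpec N R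
  haveI : QuasiSeparatedSpace ↥(CohB1.ProjSpace N R) :=
    quasiSeparatedSpace_of_quasiSeparated (CohB1.ProjSpace.toSpec N R)
  haveI : QuasiCompact r := quasiCompact_of_compactSpace r
  haveI hci : IsClosedImmersion (r ∣_ D₀) :=
    Pieces.isClosedImmersion_restrict r hD₀ (isAffineOpen_top U) hpre hsurj
  haveI : IsImmersion r := Pieces.isImmersion_of_pieces r (fun _ : Unit => D₀)
    (fun x => ⟨(), (SetLike.ext_iff.1 hpre x).2 trivial⟩) fun _ => hci
  let j : U ⟶ r.image := r.toImage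
  haveI : IsSchemeTheoreticallyDominant j := StrictTransform.std_toImage r
  haveI hqj : QuasiCompact j := by
    have : QuasiCompact (j ≫ r.imageι) := by simpa only [j, Scheme.Hom.toImage_imageι] using
      (inferInstance : QuasiCompact r)
    exact QuasiCompact.of_comp j r.imageι
  let m : ProjUP.Γm ((pb r.imageι).obj (Twist.twist 𝒜 1)) :=
    ProjUP.pullSec r.imageι (Twist.twist 𝒜 1) (g 𝒜 (el 0))
  have hm : locus m = r.imageι ⁻¹ᵁ D₀ := by
    exact (locus_pullback hinv r.imageι _).trans (congrArg (r.imageι ⁻¹ᵁ ·) (locus_g hcv (el 0)))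
  have hrange : (r.imageι ⁻¹ᵁ D₀ : Set r.image) = Set.range j := by
    refine subset_antisymm (fun z hz => ?_) ?_
    · obtain ⟨C, hC, hCeq⟩ :=
        (D₀.ι.isOpenEmbedding.isInducing.isClosed_iff).1 (r ∣_ D₀).isClosedEmbedding.isClosed_range
      have hr : Set.range r ⊆ C := by
        rintro _ ⟨x, rfl⟩
        have hx : x ∈ r ⁻¹ᵁ D₀ := (SetLike.ext_iff.1 hpre x).2 trivial
        have h2 : (r ∣_ D₀) ⟨x, hx⟩ ∈ D₀.ι ⁻¹' C := hCeq.symm ▸ ⟨⟨x, hx⟩, rfl⟩
        rw [Set.mem_preimage, ← Scheme.Hom.comp_apply, morphismRestrict_ι] at h2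
        exact h2
      have hzC : r.imageι z ∈ C := by
        have hd : z ∈ closure (Set.range j) := j.denseRange z
        have := image_closure_subset_closure_image r.imageι.continuous ⟨z, hd, rfl⟩
        refine closure_minimal ?_ hC this
        rintro _ ⟨_, ⟨x, rfl⟩, rfl⟩
        refine hr ⟨x, ?_⟩
        rw [← Scheme.Hom.comp_apply, Scheme.Hom.toImage_imageι]
      obtain ⟨w, hw⟩ : (⟨r.imageι z, hz⟩ : D₀) ∈ Set.range (r ∣_ D₀) := hCeq ▸ hzC
      refine ⟨(r ⁻¹ᵁ D₀).ι w, r.imageι.isClosedEmbedding.injective ?_⟩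
      rw [← Scheme.Hom.comp_apply, Scheme.Hom.toImage_imageι, ← Scheme.Hom.comp_apply,
        ← morphismRestrict_ι, Scheme.Hom.comp_apply, hw]
      rfl
    · rintro _ ⟨x, rfl⟩
      show r.imageι (j x) ∈ D₀
      rw [← Scheme.Hom.comp_apply, Scheme.Hom.toImage_imageι]
      exact (SetLike.ext_iff.1 hpre x).2 trivial
  refine ⟨r.image, r.imageι ≫ CohB1.ProjSpace.toSpec N R, j, _,
    Modules.Free.unitHom _ m, inferInstance, inferInstance, hqj, inferInstance,
    by rw [Scheme.Hom.toImage_imageι_assoc, hr],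
    Ample.Pullback.isAmple_pullback r.imageι (Ample.Pullback.isQuasiAffine_of_isAffineHom _)
      (HProj.QuasiProj.isAmple_twist_projSpace N R), ?_,
    fun _ => SchImage.Integral.isIntegral r⟩
  rw [← hrange, ← hm]
  rfl

end Groth.Agent.H22.AffineCompl11382
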