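import Groth.Agent.H22.AffineCompl11382.Embed
import Groth.Agent.H22.StrictTransform.CommonTarget
import Groth.Agent.H22.StrictTransform.Closed
import Groth.Agent.H22.StrictTransform.Common
import Groth.Agent.H22.BlowUpAmple
import Groth.Agent.H22.BlowUpComp.Cover
import Groth.Agent.H4.CartierSection
import Groth.Agent.Lib.ProjMor.QP
import Groth.Agent.Lib.Ample.Extend
import Groth.Agent.Lib.AffineCompl.Basic
import Groth.Agent.Lib.SchImage.Integral

/-!
# An affine open has, after blowing up, a complement carrying an ample divisor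
-/

set_option autoImplicit false
set_option maxHeartbeats 1000000

noncomputable section

universe u

open CategoryTheory CategoryTheory.Limits AlgebraicGeometry TopologicalSpace Opposite

namespace Groth.Agent.H22.AffineCompl11382

open Groth.Agent.Lib TensorMod TensorMod.Gen TensorMod.Dual TensorMod.Pullback Ample.GenLocus
  BlowUpExists StrictTransform

variable {X X' U : Scheme.{u}}

/-- Over an open missing the centre a blow-up has only the points coming from the open. -/
theorem preimage_range {I : X.IdealSheafData} {b : X' ⟶ X} (hb : BlowUp.IsBlowUp b I) (j : U ⟶ X)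
    [IsOpenImmersion j] (hI : BlowUp.IsAdmissibleFor j.opensRange I) (v : U ⟶ X') (hv : v ≫ b = j) :
    b ⁻¹' Set.range j = Set.range v := by
  haveI := Lib.Ideal.BlowUp.isIso_off_center hb
  refine subset_antisymm ?_ ?_
  · rintro x ⟨u, hu⟩
    have hoff : j u ∈ off I := fun h => Set.disjoint_left.1 hI.2 h ⟨u, rfl⟩
    have hvu : b (v u) = j u := by rw [← Scheme.Hom.comp_apply, hv]
    exact ⟨u, (injOn_of_isIso (φ := b) (U := off I) (by rw [hvu]; exact hoff) (hu.symm.trans hvu.symm)).symm⟩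
  · rintro _ ⟨u, rfl⟩
    exact ⟨u, by rw [← Scheme.Hom.comp_apply, hv]⟩

/-- A blow-up of an integral scheme in a non-zero ideal is integral. -/
theorem isIntegral_of_isBlowUp [IsIntegral X] {I : X.IdealSheafData} {b : X' ⟶ X}
    (hb : BlowUp.IsBlowUp b I) (hFG : Lim.IdealExt.IsFG I) {x : X} (hx : x ∉ I.support) :
    IsIntegral X' := by
  haveI := Lib.Ideal.BlowUp.isReduced hb
  haveI := Lib.Ideal.BlowUp.isIso_off_center hb
  let E := I.comap b
  haveI : QuasiCompact (off E).ι := quasiCompact_compl (isFG_comap' b hFG)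
  haveI : Nonempty (off I : Scheme.{u}) := ⟨⟨x, hx⟩⟩
  have hE : off E = b ⁻¹ᵁ off I := by
    ext y
    show y ∉ (I.comap b).support ↔ b y ∉ I.support
    rw [Scheme.IdealSheafData.support_comap]
    exact Iff.rfl
  haveI : IrreducibleSpace (off I : Scheme.{u}) := by
    haveI : IsIntegral (off I : Scheme.{u}) := isIntegral_of_isOpenImmersion (off I).ι
    infer_instance
  haveI : IrreducibleSpace X' := by
    let φ : (off I : Scheme.{u}) ⟶ X' := CategoryTheory.inv (b ∣_ off I) ≫ (b ⁻¹ᵁ off I).ι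
    have hr : Set.range φ = (off E : Set X') := by
      rw [hE, show (φ : _ → _) = (b ⁻¹ᵁ off I).ι ∘ CategoryTheory.inv (b ∣_ off I) from rfl,
        Set.range_comp, (CategoryTheory.inv (b ∣_ off I)).surjective.range_eq, Set.image_univ,
        Scheme.Opens.range_ι]
    have hd : closure (Set.range φ) = Set.univ := by
      rw [hr, ← Scheme.Opens.range_ι (off E), ← Scheme.Hom.support_ker,
        ker_ι_off_eq_bot hb.1]
      simp
    haveI : PreirreducibleSpace X' := ⟨by
      have h := (PreirreducibleSpace.isPreirreducible_univ (X := (off I : Scheme.{u}))).image φ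
        φ.continuous.continuousOn
      rw [Set.image_univ] at h
      exact hd ▸ h.closure⟩
    exact ⟨⟨φ ⟨x, hx⟩⟩⟩
  exact isIntegral_of_irreducibleSpace_of_isReduced X'

/-- Off the support the ideal module has a generator. -/
theorem exists_gen_idealMod (E : X.IdealSheafData) (O : X.Opens) (hO : O ≤ off E) :
    ∃ t : Γ(_root_.ClSub.idealMod E, O), IsGen (_root_.ClSub.idealMod E) O t := by
  have he : E.subschemeι ⁻¹ᵁ O = ⊥ := le_bot_iff.1 fun z hz =>
    hO hz (by
      have h : E.subschemeι z ∈ Set.range E.subschemeι := ⟨z, rfl⟩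
      rwa [Scheme.IdealSheafData.range_subschemeι] at h)
  obtain ⟨t, ht⟩ := (Lib.ClSub.Sections.mem_range_idealModι_app_iff E O 1).2 (by
    haveI : Subsingleton Γ(E.subscheme, E.subschemeι ⁻¹ᵁ O) := by
      rw [he]; infer_instance
    exact Subsingleton.elim _ _)
  refine ⟨t, fun V hV => ?_⟩
  have key : ∀ a : Γ(X, V),
      ((_root_.ClSub.idealModι E).app V (a • rs (_root_.ClSub.idealMod E) hV t) : Γ(X, V)) = a := by
    intro a
    rw [Scheme.Modules.Hom.app_smul]
    refine (congrArg (a • ·) ((Lib.ClSub.Basis.map_app (_root_.ClSub.idealModι E) hV t).trans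
      ((congrArg (X.presheaf.map (homOfLE hV).op) ht).trans (map_one _)))).trans ?_
    exact mul_one a
  refine ⟨fun a a' h => ?_, fun y => ⟨(_root_.ClSub.idealModι E).app V y, ?_⟩⟩
  · exact (key a).symm.trans ((congrArg ((_root_.ClSub.idealModι E).app V) h).trans (key a'))
  · exact Lib.ClSub.Sections.idealModι_app_injective E V (key _)

set_option maxHeartbeats 4000000 in
/-- The forward direction. -/
theorem exists_blowUp_ample {k : Type u} [Field k] {X : Scheme.{u}}
    (f : X ⟶ Spec (CommRingCat.of k)) [IsProper f] [IsIntegral X] (U : X.Opens)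
    (hU : IsAffineOpen U) (hne : (U : Set X).Nonempty) :
    ∃ 𝓙 : X.IdealSheafData, (𝓙.support : Set X) ⊆ (U : Set X)ᶜ ∧
      ∃ (X' : Scheme.{u}) (b : X' ⟶ X), BlowUp.IsBlowUp b 𝓙 ∧ IsProper (b ≫ f) ∧
        ∃ (D : X'.IdealSheafData) (L : X'.Modules), BlowUp.IsEffCartierIdeal D ∧
          (D.support : Set X') = (fun x => b x) ⁻¹' ((U : Set X)ᶜ) ∧
          ClSub.IsInverseOf L (_root_.ClSub.idealMod D) ∧ CohB1.IsAmple L := by
  haveI : IsAffine (U : Scheme.{u}) := hU
  haveI : Nonempty (U : Scheme.{u}) := ⟨⟨_, hne.some_mem⟩⟩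
  haveI : IsIntegral (U : Scheme.{u}) := isIntegral_of_isOpenImmersion U.ι
  haveI : CompactSpace X := QuasiCompact.compactSpace_of_compactSpace f
  haveI : QuasiSeparatedSpace X := quasiSeparatedSpace_of_quasiSeparated f
  haveI : QuasiCompact (U.ι ≫ f) := quasiCompact_of_compactSpace _
  obtain ⟨P, gP, jP, K, σ, hgP, hjP, hjPq, hjPs, hjPg, hK, hσ, hPint⟩ :=
    exists_affine_compactification (U.ι ≫ f)
  haveI := hgP; haveI := hjP; haveI := hPint ‹_›
  haveI : CompactSpace P := QuasiCompact.compactSpace_of_compactSpace gP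
  obtain ⟨Xc, q, hqs, hqft, hqqc, I₁, I₂, W₁, W₂, b₁, b₂, o₁, o₂, u₁, u₂, hb₁, hI₁, hb₂, hI₂,
    ho₁, ho₂, hoq₁, hoq₂, hu₁, hu₂, huo, huniv⟩ :=
    exists_common_target (U.ι ≫ f) f gP U.ι jP rfl hjPg
  haveI := hqs; haveI := ho₁; haveI := ho₂
  haveI : IsProper b₁ := isProper_of_isBlowUp hb₁ hI₁.1
  haveI : IsProper b₂ := isProper_of_isBlowUp hb₂ hI₂.1
  obtain ⟨u₀⟩ : Nonempty (U : Scheme.{u}) := inferInstance
  haveI : IsIntegral W₁ := isIntegral_of_isBlowUp hb₁ hI₁.1
    (x := U.ι u₀) (fun h => Set.disjoint_left.1 hI₁.2 h ⟨u₀, rfl⟩)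
  haveI : IsIntegral W₂ := isIntegral_of_isBlowUp hb₂ hI₂.1
    (x := jP u₀) (fun h => Set.disjoint_left.1 hI₂.2 h ⟨u₀, rfl⟩)
  haveI : IsProper o₁ := by
    haveI : IsProper (o₁ ≫ q) := by rw [hoq₁]; infer_instance
    exact IsProper.of_comp o₁ q
  haveI : IsProper o₂ := by
    haveI : IsProper (o₂ ≫ q) := by rw [hoq₂]; infer_instance
    exact IsProper.of_comp o₂ q
  have hpt : o₁ (u₁ u₀) = o₂ (u₂ u₀) := by
    rw [← Scheme.Hom.comp_apply, huo, Scheme.Hom.comp_apply]
  have hsurj : ∀ {A B : Scheme.{u}} [IsIntegral B] (a : A ⟶ Xc) (c : B ⟶ Xc) [IsOpenImmersion a]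
      [IsProper a], (Set.range a ∩ Set.range c).Nonempty → Set.range a ∪ Set.range c = Set.univ →
      Surjective a := by
    intro A B _ a c _ _ hne hun
    refine ⟨Set.range_eq_univ.1 ?_⟩
    have hc : IsClopen (Set.range a) := ⟨a.isClosedMap.isClosed_range, a.isOpenEmbedding.isOpen_range⟩
    have hsub : Set.range c ⊆ Set.range a :=
      (isPreconnected_range c.continuous).subset_isClopen hc (Set.inter_comm _ _ ▸ hne)
    rwa [Set.union_eq_left.2 hsub] at hun
  haveI : IsIso o₁ := (isIso_iff_isOpenImmersion_and_surjective o₁).2 ⟨ho₁,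
    hsurj o₁ o₂ ⟨_, ⟨u₁ u₀, rfl⟩, ⟨u₂ u₀, hpt.symm⟩⟩ huniv⟩
  haveI : IsIso o₂ := (isIso_iff_isOpenImmersion_and_surjective o₂).2 ⟨ho₂,
    hsurj o₂ o₁ ⟨_, ⟨u₂ u₀, rfl⟩, ⟨u₁ u₀, hpt⟩⟩ (Set.union_comm _ _ ▸ huniv)⟩
  obtain ⟨k₂, hk₂, hk₂b⟩ := BlowUpComp.exists_iso hb₂
  haveI := hk₂
  let ε : bl I₂ ⟶ W₁ := CategoryTheory.inv k₂ ≫ o₂ ≫ CategoryTheory.inv o₁
  let b : bl I₂ ⟶ X := ε ≫ b₁
  let b' : bl I₂ ⟶ P := blProj I₂
  have hb : BlowUp.IsBlowUp b I₁ := isBlowUp_iso_comp hb₁ ε
  have hb' : BlowUp.IsBlowUp b' I₂ := BlowUpAmple.isBlowUp_blProj I₂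
  haveI : IsProper b' := isProper_blProj hI₂.1
  have hcomm : b ≫ f = b' ≫ gP := by
    simp only [b, ε, Category.assoc, ← hoq₁, IsIso.inv_hom_id_assoc, hoq₂]
    rw [← hk₂b]
    simp [b']
  let v : (U : Scheme.{u}) ⟶ bl I₂ := u₂ ≫ k₂
  have hvb' : v ≫ b' = jP := by simp only [v, b', Category.assoc, hk₂b, hu₂]
  have hvb : v ≫ b = U.ι := by
    simp only [v, b, ε, Category.assoc, IsIso.hom_inv_id_assoc]
    rw [← reassoc_of% huo, IsIso.hom_inv_id_assoc, hu₁]
  have hrb : b ⁻¹' (U : Set X) = Set.range v := by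
    rw [← preimage_range hb U.ι hI₁ v hvb, Scheme.Opens.range_ι]
  have hrb' : b' ⁻¹' Set.range jP = Set.range v := preimage_range hb' jP hI₂ v hvb'
  haveI : IsIntegral (bl I₂) := isIntegral_of_isBlowUp hb' hI₂.1
    (x := jP u₀) (fun h => Set.disjoint_left.1 hI₂.2 h ⟨u₀, rfl⟩)
  haveI : IsProper (b ≫ f) := by rw [hcomm]; infer_instance
  haveI : CompactSpace (bl I₂) := QuasiCompact.compactSpace_of_compactSpace (b ≫ f)
  haveI : QuasiSeparatedSpace (bl I₂) := quasiSeparatedSpace_of_quasiSeparated (b ≫ f)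
  refine ⟨I₁, fun x hx hxU => Set.disjoint_left.1 hI₁.2 hx ?_, bl I₂, b, hb, inferInstance, ?_⟩
  · rw [Scheme.Opens.opensRange_ι]; exact hxU
  -- the exceptional module
  let F : (bl I₂).Modules := BlowUpAmple.excMod I₂
  have hFinv : PicF.IsInvertible F := Lib.ClSub.Cartier.isInvertible_idealMod hb'.1
  haveI : F.IsQuasicoherent := QCohInv.isQCoh_of_isInvertible hFinv
  have hFamp : _root_.RelAmple.IsRelAmple b' F :=
    ⟨inferInstance, fun V => BlowUpAmple.isAmple_excMod hI₂.1 V⟩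
  have hKamp : _root_.RelAmple.IsRelAmple gP K :=
    (Ample.RelAmple.isRelAmple_iff_isAmple gP).2 hK
  obtain ⟨n₀, -, hn₀⟩ := ProjMor.QP.eventually_isRelAmple_comp b' gP hFamp hKamp
  let K' : (bl I₂).Modules := (pb b').obj K
  have hK' : PicF.IsInvertible K' := PicLoc.isInvertible_pullback b' hK.1
  let σ' : Coh.structureModule (bl I₂) ⟶ K' :=
    (PicLoc.pullbackStructureIso b').inv ≫ (pb b').map σ
  let O := CohB1.genLocus K' σ'
  have hO : (O : Set (bl I₂)) = Set.range v := by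
    rw [← hrb', ← hσ]
    exact congrArg (fun V : (bl I₂).Opens => (V : Set (bl I₂)))
      (Ample.GenLocus.genLocus_pullback b' hK.1 σ (PicLoc.pullbackStructureIso b').symm)
  have hOoff : O ≤ off (I₂.comap b') := by
    intro z hz hzE
    rw [Scheme.IdealSheafData.support_comap] at hzE
    have hz' : z ∈ b' ⁻¹' Set.range jP := by rw [hrb', ← hO]; exact hz
    exact Set.disjoint_left.1 hI₂.2 hzE hz'
  obtain ⟨t, ht⟩ := exists_gen_idealMod _ O hOoff
  obtain ⟨n, ⟨t', ht'⟩, hn⟩ := ((Ample.Extend.eventually_extension (F := F) hK' σ' t).and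
    (Filter.eventually_ge_atTop n₀)).exists
  let L : (bl I₂).Modules := CohB1.tensorMod (CohB1.tensorMod F (CohB1.tensorPow K' n)) K'
  have hA : PicF.IsInvertible (CohB1.tensorMod F (CohB1.tensorPow K' n)) :=
    Invertible.isInvertible_tensorMod hFinv (Invertible.isInvertible_tensorPow hK' n)
  have hL : PicF.IsInvertible L := Invertible.isInvertible_tensorMod hA hK'
  let s : Coh.structureModule (bl I₂) ⟶ L :=
    SecTwist.tmulHom (Modules.Free.unitHom _ t') σ'
  have hgen : IsGen (CohB1.tensorMod F (CohB1.tensorPow K' n)) O (ProjMor.Sec.gl t' O) := by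
    rw [show ProjMor.Sec.gl t' O = Ample.Extend.tw σ' n t from ht']
    obtain ⟨a, ha⟩ := exists_coord (Ample.Basis.isGen_genLocus σ') (sv σ' O)
    have h1 : (SecTwist.twist σ' n F O t : Γ(CohB1.tensorMod F (CohB1.tensorPow K' n), O)) =
        SecTwist.tmul F (CohB1.tensorPow K' n) O t (Ample.Extend.powSec (sv σ' O) n) :=
      congrArg (SecTwist.tmul F (CohB1.tensorPow K' n) O t) (Ample.Extend.pow_eq_powSec σ' O n)
    rw [Ample.Extend.tw, h1]
    exact isGen_tmul ht (Ample.Extend.isGen_powSec (Ample.Basis.isGen_genLocus σ') n)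
  have hs : CohB1.genLocus L s = O := by
    rw [Ample.GenLocus.genLocus_tmulHom hA hK']
    exact inf_eq_right.2 (ProjMor.Sec.le_locus hgen)
  haveI : Mono s := AffineCompl.Basic.mono_of_genLocus_nonempty hL s
    (by rw [hs, hO]; exact Set.range_nonempty v)
  obtain ⟨hD, hinv, hsupp⟩ := DepthTwist.Zero.divisor_spec hL s
  refine ⟨PicF2.zeroScheme L s, L, hD, ?_, hinv, ?_⟩
  · rw [hsupp, hs, hO, ← hrb]
    rfl
  · have h := (Ample.RelAmple.isRelAmple_iff_isAmple (b' ≫ gP)).1 (hn₀ (n + 1) (by omega))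
    refine Ample.Pow.isAmple_of_iso ?_ h
    exact TensorMod.Basic.tensorIso (Iso.refl F) (Ample.Pow.pullbackPow b' K (n + 1)) ≪≫
      (TensorMod.Basic.assoc F (CohB1.tensorPow K' n) K').symm

end Groth.Agent.H22.AffineCompl11382
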